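import Cfsg.Agent.TwoTransAut.Counting
import Mathlib.GroupTheory.GroupAction.MultipleTransitivity
import Mathlib.GroupTheory.GroupAction.Quotient
import Mathlib.GroupTheory.OrderOfElement
import Mathlib.SetTheory.Cardinal.Finite
import Mathlib.Algebra.Group.End

/-!
Twisting a doubly transitive action by automorphisms: equality of permutation characters,
and automorphisms whose image of a point stabilizer has an orbit of length prime to the degree.
-/

set_option autoImplicit false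
set_option linter.style.haveILetI false
set_option linter.unusedSectionVars false

namespace CfsgLib.TwoTransAut

open Finset

variable {G Ω : Type*} [Group G] [Finite G] [MulAction G Ω] [Finite Ω]

/-- Pairs of points, acted on through two automorphisms. -/
structure Tw (Ω : Type*) (φ ψ : MulAut G) where
  fst : Ω
  snd : Ω

variable {φ ψ : MulAut G}

instance : MulAction G (Tw Ω φ ψ) where
  smul g p := ⟨φ g • p.fst, ψ g • p.snd⟩
  one_smul p := by change Tw.mk _ _ = p; simp
  mul_smul g h p := by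
    change Tw.mk _ _ = Tw.mk _ _
    simp only [map_mul, mul_smul]
    rfl

theorem Tw.smul_def (g : G) (p : Tw Ω φ ψ) : g • p = ⟨φ g • p.fst, ψ g • p.snd⟩ := rfl

def Tw.equiv : Tw Ω φ ψ ≃ Ω × Ω where
  toFun p := (p.fst, p.snd)
  invFun p := ⟨p.1, p.2⟩
  left_inv _ := rfl
  right_inv _ := rfl

instance : Finite (Tw Ω φ ψ) := Finite.of_equiv _ Tw.equiv.symm

theorem Tw.mk_eq_mk {p q : Tw Ω φ ψ} (g : G) (h1 : φ g • q.fst = p.fst) (h2 : ψ g • q.snd = p.snd) :
    (Quotient.mk'' p : MulAction.orbitRel.Quotient G (Tw Ω φ ψ)) = Quotient.mk'' q :=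
  Quotient.sound' (show p ∈ MulAction.orbit G q from ⟨g, by
    show g • q = p
    rw [Tw.smul_def, h1, h2]⟩)

/-- Number of fixed points. -/
noncomputable def fixNum (Ω : Type*) [MulAction G Ω] (g : G) : ℕ := Nat.card {x : Ω // g • x = x}

/-- Number of orbits on twisted pairs. -/
noncomputable def pairOrbits (Ω : Type*) [MulAction G Ω] (φ ψ : MulAut G) : ℕ :=
  Nat.card (MulAction.orbitRel.Quotient G (Tw Ω φ ψ))

theorem sum_fixNum_mul [Fintype G] (φ ψ : MulAut G) :
    ∑ g, fixNum Ω (φ g) * fixNum Ω (ψ g) = pairOrbits Ω φ ψ * Fintype.card G := by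
  classical
  haveI := Fintype.ofFinite (Tw Ω φ ψ)
  rw [pairOrbits, Nat.card_eq_fintype_card,
    ← MulAction.sum_card_fixedBy_eq_card_orbits_mul_card_group G (Tw Ω φ ψ)]
  refine sum_congr rfl fun g _ => ?_
  rw [fixNum, fixNum, ← Nat.card_prod, ← Nat.card_eq_fintype_card]
  refine Nat.card_congr ⟨fun x => ⟨⟨x.1.1, x.2.1⟩, ?_⟩,
    fun p => (⟨p.1.fst, congrArg Tw.fst p.2⟩, ⟨p.1.snd, congrArg Tw.snd p.2⟩), ?_, ?_⟩
  · show g • (Tw.mk (φ := φ) (ψ := ψ) x.1.1 x.2.1) = _
    rw [Tw.smul_def, x.1.2, x.2.2]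
  · intro x; rfl
  · intro p; rfl

/-- Invariance of a relation under the twisted action. -/
def Invariant (φ ψ : MulAut G) (P : Ω → Ω → Prop) : Prop :=
  ∀ (g : G) (a b : Ω), P a b → P (φ g • a) (ψ g • b)

theorem Invariant.iff {P : Ω → Ω → Prop} (h : Invariant φ ψ P) (g : G) (a b : Ω) :
    P (φ g • a) (ψ g • b) ↔ P a b := by
  refine ⟨fun hp => ?_, h g a b⟩
  have := h g⁻¹ _ _ hp
  simpa only [map_inv, inv_smul_smul] using this

theorem pairOrbits_self_le [Nontrivial Ω] (h2 : MulAction.IsMultiplyPretransitive G Ω 2) (φ : MulAut G) :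
    pairOrbits Ω φ φ ≤ 2 := by
  classical
  have h2' : ∀ {a b c d : Ω}, a ≠ b → c ≠ d → ∃ g : G, g • a = c ∧ g • b = d :=
    MulAction.is_two_pretransitive_iff.1 h2
  obtain ⟨a, b, hab⟩ := exists_pair_ne Ω
  haveI := MulAction.isPretransitive_of_is_two_pretransitive (G := G) (α := Ω)
  let f : Bool → MulAction.orbitRel.Quotient G (Tw Ω φ φ) := fun t =>
    if t then Quotient.mk'' ⟨a, a⟩ else Quotient.mk'' ⟨a, b⟩
  have hf : Function.Surjective f := by
    intro q
    obtain ⟨⟨x, y⟩, rfl⟩ := Quotient.mk''_surjective q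
    by_cases hxy : x = y
    · subst hxy
      obtain ⟨g, hg⟩ := MulAction.exists_smul_eq G a x
      exact ⟨true, (Tw.mk_eq_mk (p := (⟨x, x⟩ : Tw Ω φ φ)) (q := ⟨a, a⟩) (φ.symm g) (by simp [hg]) (by simp [hg])).symm⟩
    · obtain ⟨g, hg1, hg2⟩ := h2' hab hxy
      exact ⟨false, (Tw.mk_eq_mk (p := (⟨x, y⟩ : Tw Ω φ φ)) (q := ⟨a, b⟩) (φ.symm g) (by simp [hg1]) (by simp [hg2])).symm⟩
  exact (Nat.card_le_card_of_surjective f hf).trans (by simp)

theorem fixNum_eq_of_invariant [Nontrivial Ω] (h2 : MulAction.IsMultiplyPretransitive G Ω 2)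
    {P : Ω → Ω → Prop} (hP : Invariant φ ψ P) {a b a' b' : Ω} (h1 : P a b) (h0 : ¬ P a' b') (g : G) :
    fixNum Ω (φ g) = fixNum Ω (ψ g) := by
  classical
  haveI := Fintype.ofFinite G
  have hN : 2 ≤ pairOrbits Ω φ ψ := by
    have : Nontrivial (MulAction.orbitRel.Quotient G (Tw Ω φ ψ)) := by
      refine ⟨⟨Quotient.mk'' ⟨a, b⟩, Quotient.mk'' ⟨a', b'⟩, fun h => ?_⟩⟩
      obtain ⟨g, hg⟩ := Quotient.exact' h
      refine h0 ?_
      have hg' : (⟨φ g • a', ψ g • b'⟩ : Tw Ω φ ψ) = ⟨a, b⟩ := hg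
      rw [Tw.mk.injEq] at hg'
      rw [← hP.iff g, hg'.1, hg'.2]
      exact h1
    exact Finite.one_lt_card_iff_nontrivial.2 this
  have e1 := sum_fixNum_mul (Ω := Ω) φ φ
  have e2 := sum_fixNum_mul (Ω := Ω) ψ ψ
  have e3 := sum_fixNum_mul (Ω := Ω) φ ψ
  have n1 := pairOrbits_self_le h2 φ
  have n2 := pairOrbits_self_le h2 ψ
  have hz : ∑ g : G, ((fixNum Ω (φ g) : ℤ) - fixNum Ω (ψ g)) ^ 2 ≤ 0 := by
    have : ∀ g : G, ((fixNum Ω (φ g) : ℤ) - fixNum Ω (ψ g)) ^ 2 =
        ((fixNum Ω (φ g) * fixNum Ω (φ g) : ℕ) : ℤ) + ((fixNum Ω (ψ g) * fixNum Ω (ψ g) : ℕ) : ℤ) -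
          2 * ((fixNum Ω (φ g) * fixNum Ω (ψ g) : ℕ) : ℤ) := fun g => by push_cast; ring
    simp only [this, sum_sub_distrib, sum_add_distrib, ← mul_sum, ← Nat.cast_sum, e1, e2, e3]
    push_cast
    have : (0 : ℤ) ≤ (Fintype.card G : ℤ) := by positivity
    nlinarith
  have hnn : ∀ g ∈ (univ : Finset G), (0 : ℤ) ≤ ((fixNum Ω (φ g) : ℤ) - fixNum Ω (ψ g)) ^ 2 := fun g _ => sq_nonneg _
  have hg0 := (sum_eq_zero_iff_of_nonneg hnn).1 (le_antisymm hz (sum_nonneg hnn)) g (mem_univ g)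
  have : ((fixNum Ω (φ g) : ℤ) - fixNum Ω (ψ g)) = 0 := eq_zero_of_pow_eq_zero hg0
  exact_mod_cast sub_eq_zero.1 this

theorem pairOrbits_eq_two [Nontrivial Ω] (h2 : MulAction.IsMultiplyPretransitive G Ω 2)
    (hfix : ∀ g, fixNum Ω (φ g) = fixNum Ω (ψ g)) : pairOrbits Ω φ ψ = 2 := by
  classical
  haveI := Fintype.ofFinite G
  obtain ⟨a, b, hab⟩ := exists_pair_ne Ω
  have hge : 2 ≤ pairOrbits Ω φ φ := by
    have : Nontrivial (MulAction.orbitRel.Quotient G (Tw Ω φ φ)) := by
      refine ⟨⟨Quotient.mk'' ⟨a, a⟩, Quotient.mk'' ⟨a, b⟩, fun h => ?_⟩⟩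
      obtain ⟨g, hg⟩ := Quotient.exact' h
      have hg' : (⟨φ g • a, φ g • b⟩ : Tw Ω φ φ) = ⟨a, a⟩ := hg
      rw [Tw.mk.injEq] at hg'
      exact hab (MulAction.injective (φ g) (hg'.1.trans hg'.2.symm))
    exact Finite.one_lt_card_iff_nontrivial.2 this
  have h := sum_fixNum_mul (Ω := Ω) φ φ
  have h' := sum_fixNum_mul (Ω := Ω) φ ψ
  rw [sum_congr rfl fun g _ => by rw [← hfix g]] at h'
  have := Nat.eq_of_mul_eq_mul_right Fintype.card_pos (h.symm.trans h')
  have := pairOrbits_self_le h2 φ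
  omega

theorem exists_not_smul [Nontrivial Ω] (h2 : MulAction.IsMultiplyPretransitive G Ω 2)
    (hfix : ∀ g, fixNum Ω (φ g) = fixNum Ω (ψ g)) (a b : Ω) :
    ∃ a' b', ¬ ∃ g : G, φ g • a = a' ∧ ψ g • b = b' := by
  by_contra hall
  push Not at hall
  have : Subsingleton (MulAction.orbitRel.Quotient G (Tw Ω φ ψ)) := by
    refine ⟨fun q q' => ?_⟩
    obtain ⟨p, rfl⟩ := Quotient.mk''_surjective q
    obtain ⟨p', rfl⟩ := Quotient.mk''_surjective q'
    have key : ∀ p : Tw Ω φ ψ, (Quotient.mk'' p : MulAction.orbitRel.Quotient G (Tw Ω φ ψ)) = Quotient.mk'' ⟨a, b⟩ := by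
      intro p
      obtain ⟨g, h1, h3⟩ := hall p.fst p.snd
      exact Tw.mk_eq_mk g h1 h3
    rw [key p, key p']
  have h := pairOrbits_eq_two h2 hfix
  have : pairOrbits Ω φ ψ ≤ 1 := Finite.card_le_one_iff_subsingleton.2 this
  omega

theorem exists_smul_of_status [Nontrivial Ω] (h2 : MulAction.IsMultiplyPretransitive G Ω 2)
    {P : Ω → Ω → Prop} (hP : Invariant φ ψ P) {a b a' b' : Ω} (h1 : P a b) (h0 : ¬ P a' b')
    {x y x' y' : Ω} (hiff : P x y ↔ P x' y') : ∃ g : G, φ g • x = x' ∧ ψ g • y = y' := by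
  classical
  have hN := pairOrbits_eq_two h2 (fixNum_eq_of_invariant h2 hP h1 h0)
  let st : MulAction.orbitRel.Quotient G (Tw Ω φ ψ) → Prop := Quotient.lift (fun p => P p.fst p.snd)
    (by
      rintro p q ⟨g, hg⟩
      have hg' : (⟨φ g • q.fst, ψ g • q.snd⟩ : Tw Ω φ ψ) = p := hg
      subst hg'
      exact propext (hP.iff g _ _))
  have hsurj : Function.Surjective (fun q => decide (st q)) := by
    intro t
    cases t
    · exact ⟨Quotient.mk'' ⟨a', b'⟩, decide_eq_false h0⟩
    · exact ⟨Quotient.mk'' ⟨a, b⟩, decide_eq_true h1⟩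
  have hbij : Function.Bijective (fun q => decide (st q)) := by
    haveI := Fintype.ofFinite (MulAction.orbitRel.Quotient G (Tw Ω φ ψ))
    rw [Fintype.bijective_iff_surjective_and_card]
    refine ⟨hsurj, ?_⟩
    rw [← Nat.card_eq_fintype_card]
    exact hN
  have := @hbij.1 (Quotient.mk'' ⟨x', y'⟩) (Quotient.mk'' ⟨x, y⟩) (decide_eq_decide.2 hiff.symm)
  obtain ⟨g, hg⟩ := Quotient.exact' this
  have hg' : (⟨φ g • x, ψ g • y⟩ : Tw Ω φ ψ) = ⟨x', y'⟩ := hg
  rw [Tw.mk.injEq] at hg'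
  exact ⟨g, hg'⟩

theorem card_row [MulAction.IsPretransitive G Ω] {P : Ω → Ω → Prop} (hP : Invariant φ ψ P) (a a' : Ω) :
    Nat.card {b // P a b} = Nat.card {b // P a' b} := by
  obtain ⟨g, hg⟩ := MulAction.exists_smul_eq G a a'
  refine Nat.card_congr ((MulAction.toPerm (ψ (φ.symm g))).subtypeEquiv fun b => ?_)
  rw [MulAction.toPerm_apply, ← hP.iff (φ.symm g) a b, MulEquiv.apply_symm_apply, hg]

theorem card_col [MulAction.IsPretransitive G Ω] {P : Ω → Ω → Prop} (hP : Invariant φ ψ P) (a b : Ω) :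
    Nat.card {x // P x b} = Nat.card {y // P a y} := by
  classical
  haveI := Fintype.ofFinite Ω
  have hflip : Invariant ψ φ (fun y x => P x y) := fun g y x h => hP g x y h
  have e1 : ∑ x, Nat.card {y // P x y} = ∑ y, Nat.card {x // P x y} := by
    simp only [Nat.card_eq_fintype_card, Fintype.card_subtype, card_filter]
    exact sum_comm
  rw [sum_congr rfl fun x _ => card_row hP x a, sum_congr rfl fun y _ => card_row hflip y b,
    sum_const, sum_const, smul_eq_mul, smul_eq_mul] at e1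
  haveI : Nonempty Ω := ⟨a⟩
  exact (Nat.eq_of_mul_eq_mul_left (by simpa using Fintype.card_pos) e1).symm

/-- The orbit of a pair under the twisted action, as a relation. -/
def orbRel (φ : MulAut G) (o ω : Ω) : Ω → Ω → Prop := fun a b => ∃ g : G, g • o = a ∧ φ g • ω = b

theorem orbRel_invariant (φ : MulAut G) (o ω : Ω) : Invariant 1 φ (orbRel φ o ω) := by
  rintro g _ _ ⟨x, rfl, rfl⟩
  exact ⟨g * x, by simp [mul_smul], by simp [mul_smul]⟩

theorem orbit_map_stabilizer (φ : MulAut G) (o ω : Ω) :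
    MulAction.orbit ((MulAction.stabilizer G o).map φ.toMonoidHom) ω = {b | orbRel φ o ω o b} := by
  ext b
  constructor
  · rintro ⟨⟨_, x, hx, rfl⟩, rfl⟩
    exact ⟨x, hx, rfl⟩
  · rintro ⟨g, hg, rfl⟩
    exact ⟨⟨_, g, hg, rfl⟩, rfl⟩

/-- If `φ` sends the stabilizer of `o` into the stabilizer of `p`, it is induced by a permutation. -/
theorem exists_perm_of_fixed [MulAction.IsPretransitive G Ω] (φ : MulAut G) {o p : Ω}
    (hp : ∀ h : G, h • o = o → φ h • p = p) :
    ∃ f : Equiv.Perm Ω, f o = p ∧ ∀ (g : G) (x : Ω), f (g • x) = φ g • f x := by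
  classical
  choose c hc using fun x : Ω => MulAction.exists_smul_eq G o x
  have key : ∀ (g : G), φ g • p = φ (c (g • o)) • p := by
    intro g
    have h := hp ((c (g • o))⁻¹ * g) (by rw [mul_smul]; exact inv_smul_eq_iff.2 (hc (g • o)).symm)
    rw [map_mul, map_inv, mul_smul, inv_smul_eq_iff] at h
    exact h
  let f : Ω → Ω := fun x => φ (c x) • p
  have hsurj : Function.Surjective f := by
    intro y
    obtain ⟨g, hg⟩ := MulAction.exists_smul_eq G p y
    refine ⟨φ.symm g • o, ?_⟩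
    show φ (c (φ.symm g • o)) • p = y
    rw [← key, MulEquiv.apply_symm_apply, hg]
  refine ⟨Equiv.ofBijective f (Finite.surjective_iff_bijective.1 hsurj), ?_, fun g x => ?_⟩
  · show φ (c o) • p = p
    exact hp _ (hc o)
  · show φ (c (g • x)) • p = φ g • φ (c x) • p
    rw [← mul_smul, ← map_mul, key (g * c x), mul_smul g (c x), hc]

/-- The main step: `φ ^ 2` carries a point stabilizer to a point stabilizer. -/
theorem exists_fixed_sq (h2 : MulAction.IsMultiplyPretransitive G Ω 2) (φ : MulAut G) (o ω : Ω)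
    (hn : 2 ≤ Nat.card Ω) (hk : (Nat.card {b // orbRel φ o ω o b}).Coprime (Nat.card Ω)) :
    ∃ p : Ω, ∀ h : G, h • o = o → φ (φ h) • p = p := by
  classical
  haveI := Fintype.ofFinite Ω
  haveI : Nontrivial Ω := Finite.one_lt_card_iff_nontrivial.1 (by omega)
  haveI := MulAction.isPretransitive_of_is_two_pretransitive (G := G) (α := Ω)
  have h2' : ∀ {a b c d : Ω}, a ≠ b → c ≠ d → ∃ g : G, g • a = c ∧ g • b = d :=
    MulAction.is_two_pretransitive_iff.1 h2
  set R := orbRel φ o ω with hRdef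
  set k := Nat.card {b // R o b} with hkdef
  have hR := orbRel_invariant φ o ω
  have hk1 : 1 ≤ k := Nat.card_pos_iff.2 ⟨⟨⟨ω, 1, by simp, by simp⟩⟩, inferInstance⟩
  have hkn : k < Nat.card Ω := by
    refine lt_of_le_of_ne (Nat.card_le_card_of_injective _ Subtype.val_injective) fun h => ?_
    rw [h, Nat.coprime_self] at hk
    omega
  obtain ⟨b₁, hb₁⟩ : ∃ b, ¬ R o b := by
    by_contra hall
    push Not at hall
    have : k = Nat.card Ω := Nat.card_congr (Equiv.subtypeUnivEquiv hall)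
    omega
  have hRω : R o ω := ⟨1, by simp, by simp⟩
  have hfix : ∀ g, fixNum Ω (φ g) = fixNum Ω g := fun g => by
    simpa using (fixNum_eq_of_invariant h2 hR hRω hb₁ g).symm
  have hfix2 : ∀ g, fixNum Ω ((1 : MulAut G) g) = fixNum Ω ((φ * φ) g) := fun g => by
    rw [MulAut.mul_apply, hfix, hfix]; rfl
  -- the relation between the first and the last copy
  set T := orbRel (φ * φ) o o with hTdef
  have hT := orbRel_invariant (φ * φ) o o
  set t := Nat.card {c // T o c} with htdef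
  have hto : T o o := ⟨1, by simp, by simp⟩
  have ht1 : 1 ≤ t := Nat.card_pos_iff.2 ⟨⟨⟨o, hto⟩⟩, inferInstance⟩
  have htn : t < Nat.card Ω := by
    refine lt_of_le_of_ne (Nat.card_le_card_of_injective _ Subtype.val_injective) fun h => ?_
    obtain ⟨a', b', hab⟩ := exists_not_smul h2 hfix2 o o
    have hall : ∀ a, Nat.card {c // T a c} = Nat.card Ω := fun a => by rw [card_row hT a o]; exact h
    have : T a' b' := by
      by_contra hno
      have hlt : Fintype.card {c // T a' c} < Fintype.card Ω :=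
        Fintype.card_subtype_lt (x := b') hno
      have := hall a'
      rw [Nat.card_eq_fintype_card, Nat.card_eq_fintype_card] at this
      omega
    obtain ⟨g, h1, h3⟩ := this
    exact hab ⟨g, by simpa using h1, h3⟩
  -- the relation between the middle and the last copy
  have hS : Invariant φ (φ * φ) R := fun g a b h => by
    have := hR (φ g) a b h
    simpa using this
  have hcard : ∀ (q : Ω → Prop) [DecidablePred q], (univ.filter q).card = Nat.card {x // q x} :=
    fun q _ => by rw [Nat.card_eq_fintype_card, Fintype.card_subtype]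
  have hcons := relation_constraint R R T (v := Nat.card Ω) (k := k) (t := t) o o
    Nat.card_eq_fintype_card.symm Nat.card_eq_fintype_card.symm
    (by rw [hcard]; exact card_col hR o o)
    (by rw [hcard])
    (fun a => by rw [hcard]; exact card_row hT a o)
    (fun c => by rw [hcard]; exact card_col hT o c)
    (fun a a₁ a' a₁' hne hne' => by
      obtain ⟨g, h1, h3⟩ := h2' hne hne'
      rw [hcard, hcard]
      refine Nat.card_congr ((MulAction.toPerm ((φ * φ) g)).subtypeEquiv fun c => ?_)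
      have e1 := hT.iff g a c
      have e3 := hT.iff g a₁ c
      simp only [MulAut.one_apply, h1, h3] at e1 e3
      simp only [hRdef, hTdef, MulAction.toPerm_apply]
      rw [e1, e3])
    (fun c c' hiff => by
      obtain ⟨g, h1, h3⟩ := exists_smul_of_status h2 hS hRω hb₁ hiff
      rw [hcard, hcard]
      refine Nat.card_congr ((MulAction.toPerm g).subtypeEquiv fun a => ?_)
      have e1 := hR.iff g a o
      have e3 := hT.iff g a c
      simp only [MulAut.one_apply, h1, h3] at e1 e3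
      simp only [hRdef, hTdef, MulAction.toPerm_apply]
      rw [e1, e3])
    hk1 hkn hk.symm
  have hinv : ∀ h : G, h • o = o → ∀ c, (T o (φ (φ h) • c) ↔ T o c) := by
    intro h hh c
    have := hT.iff h o c
    simpa [hh] using this
  rcases hcons with h | h
  · refine ⟨o, fun x hx => ?_⟩
    haveI : Subsingleton {c // T o c} := Finite.card_le_one_iff_subsingleton.1 h
    have := Subsingleton.elim (⟨φ (φ x) • o, (hinv x hx o).2 hto⟩ : {c // T o c}) ⟨o, hto⟩
    exact congrArg Subtype.val this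
  · have hc : Nat.card {c // ¬ T o c} = 1 := by
      rw [Nat.card_eq_fintype_card, Fintype.card_subtype_compl, ← Nat.card_eq_fintype_card, ← Nat.card_eq_fintype_card]
      omega
    obtain ⟨⟨p, hp⟩⟩ := (Nat.card_eq_one_iff_unique.1 hc).2
    haveI := (Nat.card_eq_one_iff_unique.1 hc).1
    refine ⟨p, fun x hx => ?_⟩
    have := Subsingleton.elim (⟨φ (φ x) • p, fun h => hp ((hinv x hx p).1 h)⟩ : {c // ¬ T o c}) ⟨p, hp⟩
    exact congrArg Subtype.val this

/-- An automorphism of odd order whose image of a point stabilizer has an orbit of length prime to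
the degree is induced by a permutation. -/
theorem exists_conj {Ω : Type*} [Fintype Ω] (G : Subgroup (Equiv.Perm Ω))
    (h2 : MulAction.IsMultiplyPretransitive G Ω 2) (o : Ω) (α : MulAut G) (hα : Odd (orderOf α)) (ω : Ω)
    (hk : (Nat.card (MulAction.orbit ((MulAction.stabilizer G o).map α.toMonoidHom) ω)).Coprime (Fintype.card Ω)) :
    (∃ σ : Equiv.Perm Ω, σ ∈ Subgroup.normalizer (G : Set (Equiv.Perm Ω)) ∧
      ∀ g : G, ((α g : G) : Equiv.Perm Ω) = σ * (g : Equiv.Perm Ω) * σ⁻¹) ∧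
    (Nat.card (MulAction.orbit ((MulAction.stabilizer G o).map α.toMonoidHom) ω) = 1 ∨
      Nat.card (MulAction.orbit ((MulAction.stabilizer G o).map α.toMonoidHom) ω) = Fintype.card Ω - 1) := by
  classical
  have hkey : ∃ σ : Equiv.Perm Ω, ∀ g : G, ((α g : G) : Equiv.Perm Ω) = σ * (g : Equiv.Perm Ω) * σ⁻¹ := by
    rcases lt_or_ge (Fintype.card Ω) 2 with hn | hn
    · haveI : Subsingleton Ω := Fintype.card_le_one_iff_subsingleton.1 (by omega)
      exact ⟨1, fun g => Equiv.ext fun _ => Subsingleton.elim _ _⟩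
    rw [orbit_map_stabilizer, ← Nat.card_eq_fintype_card] at hk
    obtain ⟨p, hp⟩ := exists_fixed_sq h2 α o ω (by rwa [Nat.card_eq_fintype_card]) hk
    haveI := MulAction.isPretransitive_of_is_two_pretransitive (G := G) (α := Ω)
    obtain ⟨f, -, hf⟩ := exists_perm_of_fixed (α * α) hp
    have hconj : ∀ g : G, ((α (α g) : G) : Equiv.Perm Ω) = f * (g : Equiv.Perm Ω) * f⁻¹ := fun g =>
      eq_mul_inv_iff_mul_eq.2 (Equiv.ext fun x => (hf g x).symm)
    have hpow : ∀ (j : ℕ) (g : G), ((((α * α) ^ j) g : G) : Equiv.Perm Ω) = f ^ j * (g : Equiv.Perm Ω) * (f ^ j)⁻¹ := by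
      intro j
      induction j with
      | zero => intro g; simp
      | succ j ih => intro g; rw [pow_succ', MulAut.mul_apply, MulAut.mul_apply, hconj, ih]; group
    obtain ⟨m, hm⟩ := hα
    refine ⟨f ^ (m + 1), fun g => ?_⟩
    rw [← hpow]
    have : (α * α) ^ (m + 1) = α := by
      rw [← sq, ← pow_mul, show 2 * (m + 1) = orderOf α + 1 by omega, pow_succ, pow_orderOf_eq_one, one_mul]
    rw [this]
  obtain ⟨σ, hσ⟩ := hkey
  refine ⟨⟨σ, Subgroup.mem_normalizer_iff.2 fun x => ⟨fun hx => ?_, fun hx => ?_⟩, hσ⟩, ?_⟩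
  · rw [← hσ ⟨x, hx⟩]; exact SetLike.coe_mem _
  · obtain ⟨g, hg⟩ := α.surjective ⟨_, hx⟩
    have h := hσ g
    rw [hg] at h
    have : x = (g : Equiv.Perm Ω) := by simpa using h
    rw [this]; exact g.2
  have horb : MulAction.orbit ((MulAction.stabilizer G o).map α.toMonoidHom) ω =
      {b | ∃ g : G, g • (σ o) = σ o ∧ g • ω = b} := by
    rw [orbit_map_stabilizer]
    ext b
    have happ : ∀ (g : G) (x : Ω), α g • x = σ (g • σ.symm x) := fun g x => by
      show ((α g : G) : Equiv.Perm Ω) x = _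
      rw [hσ g]; rfl
    constructor
    · rintro ⟨g, hg, rfl⟩
      exact ⟨α g, by rw [happ, Equiv.symm_apply_apply, hg], rfl⟩
    · rintro ⟨g, hg, rfl⟩
      refine ⟨α.symm g, ?_, by rw [MulEquiv.apply_symm_apply]⟩
      have := happ (α.symm g) (σ o)
      rw [MulEquiv.apply_symm_apply, hg, Equiv.symm_apply_apply] at this
      exact (σ.injective this).symm
  rw [horb]
  rcases eq_or_ne ω (σ o) with rfl | hne
  · left
    refine Nat.card_eq_one_iff_unique.2 ⟨⟨fun x y => Subtype.ext ?_⟩, ⟨σ o, 1, one_smul _ _, one_smul _ _⟩⟩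
    obtain ⟨_, g, hg, rfl⟩ := x
    obtain ⟨_, g', hg', rfl⟩ := y
    exact hg.trans hg'.symm
  · right
    have : {b | ∃ g : G, g • (σ o) = σ o ∧ g • ω = b} = {σ o}ᶜ := by
      ext b
      constructor
      · rintro ⟨g, hg, rfl⟩ hb
        exact hne (MulAction.injective g (hb.trans hg.symm))
      · intro hb
        obtain ⟨g, h1, h3⟩ := MulAction.is_two_pretransitive_iff.1 h2 (Ne.symm hne) (Ne.symm hb)
        exact ⟨g, h1, h3⟩
    rw [this, Nat.card_coe_set_eq, Set.ncard_compl, Set.ncard_singleton, Nat.card_eq_fintype_card]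

end CfsgLib.TwoTransAut
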