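import Mathlib.Algebra.BigOperators.Group.Finset.Basic
import Mathlib.Algebra.BigOperators.Ring.Finset
import Mathlib.Data.Fintype.Card
import Mathlib.Data.Finset.Card
import Mathlib.Tactic.Ring
import Mathlib.Tactic.Linarith
import Mathlib.Tactic.LinearCombination
import Mathlib.Tactic.Zify
import Mathlib.Tactic.Push
import Mathlib.Algebra.BigOperators.Group.Finset.Sigma
import Mathlib.RingTheory.Int.Basic

/-!
A numerical constraint on two relations between finite sets of the same size, one of them regular of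
degree prime to the number of points, the other a symmetric design.
-/

set_option autoImplicit false
set_option linter.style.haveILetI false

namespace CfsgLib.TwoTransAut

open Finset

theorem nat_constraint {v k t l : ℕ} {x y : ℤ} (hk : 1 ≤ k) (hkv : k < v) (hcop : Nat.Coprime v k)
    (hrow : (k : ℤ) * x + ((v : ℤ) - k) * y = k * t)
    (hsq : (k : ℤ) * x ^ 2 + ((v : ℤ) - k) * y ^ 2 = k * t + k * ((k : ℤ) - 1) * l)
    (hl : (t : ℤ) * ((t : ℤ) - 1) = l * ((v : ℤ) - 1)) (htv : t ≤ v) :
    t ≤ 1 ∨ v ≤ t + 1 := by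
  have hk0 : (k : ℤ) ≠ 0 := by exact_mod_cast (by omega : k ≠ 0)
  have hvk : ((v : ℤ) - k) ≠ 0 := sub_ne_zero.2 (by exact_mod_cast (by omega : v ≠ k))
  have hd : (x - y) ^ 2 = (t : ℤ) - l := by
    refine mul_left_cancel₀ hvk (mul_left_cancel₀ hk0 ?_)
    linear_combination (v : ℤ) * hsq - ((k : ℤ) * x + ((v : ℤ) - k) * y + k * t) * hrow
      - (k : ℤ) * k * hl
  have hdvd : (v : ℤ) ∣ (t : ℤ) - (x - y) := by
    have hc : IsCoprime (v : ℤ) (k : ℤ) := Int.isCoprime_iff_gcd_eq_one.2 (by simpa [Int.gcd] using hcop)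
    refine hc.dvd_of_dvd_mul_left ⟨y, ?_⟩
    linear_combination -hrow
  rcases Nat.lt_or_ge t 2 with h2 | h2
  · left; omega
  right
  obtain ⟨m, hm⟩ := hdvd
  have hle : (x - y) ^ 2 ≤ (t : ℤ) := by rw [hd]; simp
  set d := x - y with hdd
  have ht2 : (2 : ℤ) ≤ t := by exact_mod_cast h2
  have hlt1 : d < t := by nlinarith
  have hlt2 : -(t : ℤ) < d := by nlinarith
  have htv' : (t : ℤ) ≤ v := by exact_mod_cast htv
  have hv0 : (0 : ℤ) < v := by linarith
  have hm1 : m = 1 := by
    have h1 : 0 < m := by nlinarith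
    have h3 : m < 2 := by nlinarith
    omega
  subst hm1
  have hd' : d = (t : ℤ) - v := by linarith
  have hkey : ((v : ℤ) - 1) * ((t : ℤ) - v) ^ 2 = (t : ℤ) * ((v : ℤ) - t) := by
    rw [← hd', hd]; linear_combination hl
  by_contra hlt
  push Not at hlt
  have hlt' : (t : ℤ) + 2 ≤ v := by exact_mod_cast hlt
  nlinarith [mul_le_mul_of_nonneg_left (show (2 : ℤ) ≤ (v : ℤ) - t by linarith) (show (0 : ℤ) ≤ (v : ℤ) - 1 by linarith)]

variable {A B C : Type*} [Fintype A] [Fintype C]

theorem relation_constraint (R : A → B → Prop) (S : B → C → Prop) (T : A → C → Prop)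
    [∀ a, DecidablePred (R a)] [∀ b, DecidablePred (S b)] [∀ a, DecidablePred (T a)]
    {v k t : ℕ} (b₀ : B) (a₀ : A)
    (hA : Fintype.card A = v) (hC : Fintype.card C = v)
    (hR : (univ.filter fun a => R a b₀).card = k)
    (hS : (univ.filter fun c => S b₀ c).card = k)
    (hT : ∀ a, (univ.filter fun c => T a c).card = t)
    (hT' : ∀ c, (univ.filter fun a => T a c).card = t)
    (hlam : ∀ a a₁ a' a₁', a ≠ a₁ → a' ≠ a₁' →
      (univ.filter fun c => T a c ∧ T a₁ c).card = (univ.filter fun c => T a' c ∧ T a₁' c).card)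
    (hP : ∀ c c', (S b₀ c ↔ S b₀ c') →
      (univ.filter fun a => R a b₀ ∧ T a c).card = (univ.filter fun a => R a b₀ ∧ T a c').card)
    (hk : 1 ≤ k) (hkv : k < v) (hcop : Nat.Coprime v k) : t ≤ 1 ∨ v ≤ t + 1 := by
  classical
  by_cases h2 : t ≤ 1
  · exact Or.inl h2
  have htv : t ≤ v := by rw [← hT a₀, ← hC]; exact card_le_univ _
  obtain ⟨a₁, ha₁⟩ : ∃ a, a ≠ a₀ := Fintype.exists_ne_of_one_lt_card (by omega) a₀
  set l := (univ.filter fun c => T a₀ c ∧ T a₁ c).card with hldef
  have hl : ∀ a a', a ≠ a' → (univ.filter fun c => T a c ∧ T a' c).card = l := fun a a' hne =>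
    hlam a a' a₀ a₁ hne ha₁.symm
  -- the design equation
  have hdesign : t * t = t + (v - 1) * l := by
    have h1 : ∑ a, (univ.filter fun c => T a₀ c ∧ T a c).card = t * t := by
      simp only [card_filter]
      rw [Finset.sum_comm]
      have : ∀ c, ∑ a, (if T a₀ c ∧ T a c then 1 else 0) = if T a₀ c then t else 0 := by
        intro c
        by_cases hc : T a₀ c
        · simp only [hc, true_and, if_true]
          rw [← card_filter, hT']
        · simp [hc]
      simp only [this]
      rw [← sum_filter, sum_const, hT, smul_eq_mul]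
    rw [← h1, ← Finset.add_sum_erase _ _ (mem_univ a₀)]
    congr 1
    · simp only [and_self]; exact hT a₀
    · rw [sum_congr rfl fun a ha => hl a₀ a (ne_of_mem_erase ha).symm, sum_const, card_erase_of_mem (mem_univ _),
        card_univ, hA, smul_eq_mul]
  -- the composition
  set P : C → ℕ := fun c => (univ.filter fun a => R a b₀ ∧ T a c).card with hPdef
  obtain ⟨c₁, hc₁⟩ : ∃ c, S b₀ c := by
    have : (univ.filter fun c => S b₀ c).Nonempty := card_pos.1 (by omega)
    obtain ⟨c, hc⟩ := this
    exact ⟨c, (mem_filter.1 hc).2⟩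
  obtain ⟨c₂, hc₂⟩ : ∃ c, ¬ S b₀ c := by
    by_contra hall
    push Not at hall
    rw [filter_true_of_mem (fun c _ => hall c), card_univ, hC] at hS
    omega
  have hval : ∀ c, P c = if S b₀ c then P c₁ else P c₂ := by
    intro c
    split_ifs with hc
    · exact hP c c₁ (iff_of_true hc hc₁)
    · exact hP c c₂ (iff_of_false hc hc₂)
  have hcount : ∀ f : ℕ → ℕ, ∑ c, f (P c) = k * f (P c₁) + (v - k) * f (P c₂) := by
    intro f
    rw [← sum_filter_add_sum_filter_not univ (fun c => S b₀ c),
      sum_congr rfl (fun c hc => by rw [hval c, if_pos (mem_filter.1 hc).2]),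
      sum_congr rfl (fun c (hc : c ∈ univ.filter fun c => ¬ S b₀ c) => by rw [hval c, if_neg (mem_filter.1 hc).2]),
      sum_const, sum_const, hS, smul_eq_mul, smul_eq_mul]
    congr 2
    have h := card_filter_add_card_filter_not (s := (univ : Finset C)) (fun c => S b₀ c)
    rw [hS, card_univ, hC] at h
    omega
  have hrow : ∑ c, P c = k * t := by
    simp only [hPdef, card_filter]
    rw [Finset.sum_comm]
    have : ∀ a, ∑ c, (if R a b₀ ∧ T a c then 1 else 0) = if R a b₀ then t else 0 := by
      intro a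
      by_cases ha : R a b₀
      · simp only [ha, true_and, if_true]
        rw [← card_filter, hT]
      · simp [ha]
    simp only [this]
    rw [← sum_filter, sum_const, hR, smul_eq_mul]
  have hsq : ∑ c, P c ^ 2 = k * t + k * (k - 1) * l := by
    set K := univ.filter fun a => R a b₀ with hK
    have hPK : ∀ c, P c = ∑ a ∈ K, if T a c then 1 else 0 := fun c => by
      rw [← card_filter, hK, filter_filter]
    simp only [hPK, sq, sum_mul_sum]
    rw [Finset.sum_comm]
    have hin : ∀ a ∈ K, ∑ c, ∑ a' ∈ K, ((if T a c then 1 else 0) * if T a' c then 1 else 0) =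
        t + (k - 1) * l := by
      intro a ha
      rw [Finset.sum_comm, ← Finset.add_sum_erase _ _ ha]
      have hterm : ∀ a', ∑ c, ((if T a c then 1 else 0) * if T a' c then 1 else 0) =
          (univ.filter fun c => T a c ∧ T a' c).card := by
        intro a'
        rw [card_filter]
        refine sum_congr rfl fun c _ => ?_
        by_cases h1 : T a c <;> by_cases h2 : T a' c <;>
          simp only [h1, h2, and_self, and_true, and_false, if_true, if_false, mul_one, mul_zero]
      simp only [hterm]
      congr 1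
      · simp only [and_self]; exact hT a
      · rw [sum_congr rfl fun a' ha' => hl a a' (ne_of_mem_erase ha').symm, sum_const, card_erase_of_mem ha,
          hR, smul_eq_mul]
    rw [sum_congr rfl hin, sum_const, hR, smul_eq_mul]
    ring
  have e1 := (hcount id).symm.trans hrow
  have e2 := (hcount fun n => n ^ 2).symm.trans hsq
  simp only [id] at e1
  zify [hkv.le, hk, show 1 ≤ v by omega] at e1 e2 hdesign
  refine nat_constraint (x := P c₁) (y := P c₂) (l := l) hk hkv hcop e1 e2 ?_ htv
  linear_combination hdesign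

end CfsgLib.TwoTransAut
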